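import Cfsg.Agent.TAB.Psi.Char
import Cfsg.Agent.TAB.M.Key
import Cfsg.Agent.H55.PQ.Mult

/-!
# The box `BoxPsi` from a refined cover (helper90)

`Good x` : the value of `psi3` at `x` is the value of `ctwo` at the type of `x`;
`boxPsi_of` : `Good` on `Hat` gives `BoxPsi`; `good_of_row` : the numerical check.
-/

set_option autoImplicit false
set_option maxRecDepth 100000

namespace Cfsg.Agent.TAB.Psi

open Cfsg Cfsg.Agent.MonsterX.Space
open Cfsg.Agent.Characters.Core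
open Cfsg.Agent.BpSpor.MBigModel (MG zz)
open Cfsg.Agent.LThreeMBTr (chr)
open Cfsg.Agent.TAB.C2B Cfsg.Agent.TAB.M
open Subgroup (centralizer mem_centralizer_singleton_iff)

theorem chr_tV (g : MG) : chr V g = tV g := rfl

/-- the types of helper16 in the form of helper47 -/
theorem tyM_iff' (i : ℕ) (g : MG) :
    TyM i g ↔ orderOf g = dat.ord i ∧ ∀ p ∈ dat.pw i, tV (g ^ p.1) = (val p.2 : ℚ) := Iff.rfl

/-- the value of `psi3` is right -/
def Good (x : Amb) : Prop := ∀ i < 171, TyM i x.1 → psi3 x = ctwo i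

/-- the projection to `C(z)` -/
noncomputable def pC : Hat →* centralizer ({zz} : Set MG) :=
  p1.codRestrict _ fun x => mem_centralizer_singleton_iff.2 (hat_comm x.2)

theorem pC_surj : Function.Surjective pC := by
  intro g
  obtain ⟨x, hx, h⟩ := exists_hat (mem_centralizer_singleton_iff.1 g.2)
  exact ⟨⟨x, hx⟩, Subtype.ext h⟩

open Classical in
/-- the function on `C(z)` -/
noncomputable def Phi (g : MG) : ℂ := if h : ∃ x ∈ Hat, x.1 = g then ((psi3 h.choose : ℚ) : ℂ) else 0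

theorem Phi_eq {x : Amb} (hx : x ∈ Hat) : Phi x.1 = ((psi3 x : ℚ) : ℂ) := by
  have h : ∃ y ∈ Hat, y.1 = x.1 := ⟨x, hx, rfl⟩
  rw [Phi, dif_pos h, psi3_fiber h.choose_spec.1 hx h.choose_spec.2]

theorem gen_Phi : IsGeneralizedCharacter (centralizer ({zz} : Set MG)) fun h => Phi h := by
  have := finite_hat
  have := BpSpor.MBigModel.finite
  exact H55.PQ.gen_descend pC pC_surj gen_psi3 fun x => Phi_eq x.2

/-- **The box.** -/
theorem boxPsi_of (h : ∀ x ∈ Hat, Good x) : BoxPsi := by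
  refine ⟨Phi, gen_Phi, fun i hi g hg ht => ?_⟩
  obtain ⟨x, hx, rfl⟩ := exists_hat (mem_centralizer_singleton_iff.1 hg)
  rw [Phi_eq hx, h x hx i hi ht, Rat.cast_intCast]

/-! ### invariance -/

theorem conj_of_gen {f : Amb → ℚ} (hf : IsGeneralizedCharacter Hat fun x => ((f x : ℚ) : ℂ)) {c x : Amb}
    (hc : c ∈ Hat) (hx : x ∈ Hat) : f (c * x * c⁻¹) = f x := by
  have h : ((f (c * x * c⁻¹) : ℚ) : ℂ) = f x := H447.CTab.gen_classFunction hf ⟨x, hx⟩ ⟨c, hc⟩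
  exact_mod_cast h

theorem pow_of_char {f : Amb → ℚ} (hf : IsCharacter Hat fun x => ((f x : ℚ) : ℂ)) {x : Amb} (hx : x ∈ Hat)
    {k n : ℕ} (hn : n ≠ 0) (h : x ^ n = 1) (hk : Nat.Coprime k n) : f (x ^ k) = f x := by
  have := finite_hat
  obtain ⟨σ, hσ⟩ := Characters.GaloisBasic.exists_ringEquiv_pow hn hk
  have h1 := Characters.GaloisBasic.map_apply (σ : ℂ →+* ℂ) hσ hf hn (g := ⟨x, hx⟩) (Subtype.ext h)
  rw [map_ratCast] at h1
  exact_mod_cast h1.symm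

theorem psi3_conj {c x : Amb} (hc : c ∈ Hat) (hx : x ∈ Hat) : psi3 (c * x * c⁻¹) = psi3 x :=
  conj_of_gen gen_psi3 hc hx

theorem s2o_conj {c x : Amb} (hc : c ∈ Hat) (hx : x ∈ Hat) : s2o (c * x * c⁻¹) = s2o x :=
  conj_of_gen gen_s2o hc hx

theorem c24_pow {x : Amb} (hx : x ∈ Hat) {k n : ℕ} (hn : n ≠ 0) (h : x ^ n = 1) (hk : Nat.Coprime k n) :
    c24 (x ^ k) = c24 x := pow_of_char char_c24 hx hn h hk

theorem Good.fiber {x y : Amb} (h : Good x) (hx : x ∈ Hat) (hy : y ∈ Hat) (e : x.1 = y.1) : Good y :=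
  fun i hi ht => (psi3_fiber hx hy e).trans (h i hi (e ▸ ht))

theorem Good.conj {x c : Amb} (h : Good x) (hx : x ∈ Hat) (hc : c ∈ Hat) : Good (c * x * c⁻¹) := by
  intro i hi ht
  rw [psi3_conj hc hx]
  refine h i hi (Eng.Ty.isConj ht (isConj_iff.2 ⟨c.1⁻¹, ?_⟩))
  show c.1⁻¹ * (c.1 * x.1 * c.1⁻¹) * c.1⁻¹⁻¹ = x.1
  group

/-- conjugation in `C(z)` -/
theorem Good.of_conj {x y : Amb} (h : Good x) (hx : x ∈ Hat) (hy : y ∈ Hat) {g : MG} (hg : g * zz = zz * g)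
    (e : g * x.1 * g⁻¹ = y.1) : Good y := by
  obtain ⟨c, hc, rfl⟩ := exists_hat hg
  exact (h.conj hx hc).fiber (Hat.mul_mem (Hat.mul_mem hc hx) (Hat.inv_mem hc)) hy e

/-- it is enough to check representatives of the classes of `C(z)` -/
theorem boxPsi_of_cover (h : ∀ g : MG, g * zz = zz * g →
    ∃ x ∈ Hat, Good x ∧ ∃ c : MG, c * zz = zz * c ∧ c * x.1 * c⁻¹ = g) : BoxPsi := by
  refine boxPsi_of fun y hy => ?_
  obtain ⟨x, hx, h1, c, hc, h2⟩ := h y.1 (hat_comm hy)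
  exact h1.of_conj hx hy hc h2

/-! ### the numerical check -/

/-- `c` is the value of `ctwo` on all the types which are compatible with the order `o` and the traces `l` -/
def c2ok (o : ℕ) (l : List (ℕ × ℤ)) (c : ℤ) : Bool :=
  (List.range 171).all fun i => !Nat.beq (dat.ord i) o ||
    ((dat.pw i).any fun p => l.any fun q => Nat.beq p.1 q.1 && !decide (val p.2 = q.2)) || decide (ctwo i = c)

theorem ctwo_of_ok {g : MG} {o : ℕ} {l : List (ℕ × ℤ)} {c : ℤ} (ho : orderOf g = o)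
    (hl : ∀ p ∈ l, tV (g ^ p.1) = p.2) (h : c2ok o l c = true) {i : ℕ} (hi : i < 171) (ht : TyM i g) :
    ctwo i = c := by
  have h1 := List.all_eq_true.1 h i (List.mem_range.2 hi)
  obtain ⟨h2, h3⟩ := (tyM_iff' i g).1 ht
  rw [Bool.or_eq_true, Bool.or_eq_true] at h1
  rcases h1 with (h1 | h1) | h1
  · rw [← h2, ho, Nat.beq_refl] at h1
    exact absurd h1 (by decide)
  · obtain ⟨p, hp, h1⟩ := List.any_eq_true.1 h1
    obtain ⟨q, hq, h1⟩ := List.any_eq_true.1 h1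
    rw [Bool.and_eq_true] at h1
    have h4 := h3 p hp
    rw [Nat.eq_of_beq_eq_true h1.1, hl q hq] at h4
    have h5 : q.2 = val p.2 := by exact_mod_cast h4
    simp [h5] at h1
  · exact of_decide_eq_true h1

/-- six times the value of `psi3` -/
def psi6 (a1 a2 a3 b1 b2 s : ℤ) : ℤ :=
  6 * a1 ^ 2 + 6 * a1 * s + 3 * (b1 ^ 2 - b2) + b1 * (6 * a1 + a1 ^ 3 + 3 * a1 * a2 + 2 * a3)

theorem psi3_val {x : Amb} {a1 a2 a3 b1 b2 s c : ℤ} (h1 : c24 x = a1) (h2 : c24 (x ^ 2) = a2)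
    (h3 : c24 (x ^ 3) = a3) (h4 : cT x = b1) (h5 : cT (x ^ 2) = b2) (h6 : s2o x = s)
    (h : psi6 a1 a2 a3 b1 b2 s = 6 * c) : psi3 x = c := by
  have h7 : ((psi6 a1 a2 a3 b1 b2 s : ℤ) : ℚ) = 6 * c := by exact_mod_cast h
  unfold psi6 at h7
  unfold psi3
  rw [h1, h2, h3, h4, h5, h6]
  push_cast at h7
  linarith

theorem good_of_val {x : Amb} {o : ℕ} {l : List (ℕ × ℤ)} {c : ℤ} (ho : orderOf x.1 = o)
    (hl : ∀ p ∈ l, tV (x.1 ^ p.1) = p.2) (h : c2ok o l c = true) (hc : psi3 x = c) : Good x :=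
  fun _ hi ht => by rw [hc, ctwo_of_ok ho hl h hi ht]

/-- the values of `ctwo` on the types `TT` -/
def c2L : List ℤ :=
  [21493760, -2048, 96256, 248, -76, 8672, 0, 0, 0, 2048, 10, 760, 28, -8, 4, -32, 364, 352, 8, 204, 0, 0, 0,
  0, 0, 128, 5, 86, 6, 2, -8, 62, 56, 46, 0, 0, 0, 8, 0, -4, 0, 0, 36, 32, 2, -4, 24, 20, 4, -2, 22, 19, 0, 0,
  16, 1, 1, -2, 13, 10, 0, -2, 0, 0, 10, 8, -1, 3, 8, -2, 6, 7, 0, 0, 0, 0, 2, 0, 0, 8, 0, 6, 6, 0, 0, 4, 0,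
  2, -2, -1, 4, 3, -1, 2, 4, 0, 1, 3, -1, 0, 3, 2, 2, 0, 0, 0, -1, 3, 0, 2, -1, 1, 0, 0, 0, 2, 1, 0, 2, 1, 0,
  0, 1, -1, 0, 0, 1, 0, 1]

/-- the numbers in the list of helper16 of the types `TT` -/
def ixL : List ℕ :=
  [0, 2, 1, 5, 4, 3, 9, 8, 7, 6, 11, 10, 15, 17, 16, 14, 13, 12, 19, 18, 23, 25, 22, 24, 21, 20, 27, 26, 30,
  32, 29, 31, 28, 33, 40, 38, 43, 37, 42, 35, 39, 36, 41, 34, 45, 47, 48, 46, 50, 52, 49, 51, 54, 53, 55, 57,
  60, 59, 61, 58, 66, 65, 64, 67, 68, 63, 70, 71, 72, 74, 73, 75, 79, 82, 85, 80, 78, 81, 83, 77, 76, 84, 88,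
  92, 93, 91, 90, 99, 97, 101, 98, 100, 95, 96, 103, 104, 105, 109, 111, 112, 113, 110, 117, 118, 120, 119,
  124, 125, 123, 126, 128, 129, 131, 135, 139, 138, 145, 147, 143, 144, 146, 142, 150, 154, 157, 159, 160,
  162, 163]

theorem c2L_ok : ∀ k < 129, c2ok (TT.getD k ⟨0, [], 0, 0⟩).ord (TT.getD k ⟨0, [], 0, 0⟩).val (c2L.getD k 0) = true := by
  decide +kernel

theorem ixL_ok : ∀ k < 129, Eng.sg dat val (ixL.getD k 0) =
    ((TT.getD k ⟨0, [], 0, 0⟩).ord, (TT.getD k ⟨0, [], 0, 0⟩).val) := by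
  decide +kernel

/-- the two kinds of types -/
theorem tyM_hasTy {k : ℕ} (hk : k < 129) (g : MG) : TyM (ixL.getD k 0) g ↔ HasTy g (TT.getD k ⟨0, [], 0, 0⟩) :=
  tyM_iff (ixL_ok k hk) g

/-- the check for an element of the type number `k` -/
theorem good_of_ty {x : Amb} {k : ℕ} (hk : k < 129) (ht : HasTy x.1 (TT.getD k ⟨0, [], 0, 0⟩))
    (hc : psi3 x = (c2L.getD k 0 : ℤ)) : Good x :=
  good_of_val ht.1 ht.2 (c2L_ok k hk) hc

/-- **The check of one row.** -/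
theorem good_of_row {x : Amb} {k : ℕ} (hk : k < 129) (ht : HasTy x.1 (TT.getD k ⟨0, [], 0, 0⟩))
    {a1 a2 a3 b1 b2 s : ℤ} (h1 : c24 x = a1) (h2 : c24 (x ^ 2) = a2) (h3 : c24 (x ^ 3) = a3) (h4 : cT x = b1)
    (h5 : cT (x ^ 2) = b2) (h6 : s2o x = s) (h : psi6 a1 a2 a3 b1 b2 s = 6 * c2L.getD k 0) : Good x :=
  good_of_ty hk ht (psi3_val h1 h2 h3 h4 h5 h6 h)

end Cfsg.Agent.TAB.Psi
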