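import Cfsg.Agent.TAB.Psi.Ker
import Cfsg.Agent.H447.CTabLam
import Cfsg.Agent.S0148

/-!
# The generalized characters `c24`, `cT`, `s2`, `s2o`, `psi3` of the double cover of `C(z)` (helper90)
-/

set_option autoImplicit false
set_option maxRecDepth 100000

namespace Cfsg.Agent.TAB.Psi

open Cfsg Cfsg.Agent.Monster Cfsg.Agent.MonsterX Cfsg.Agent.MonsterX.Space
open Cfsg.Agent.Monster.PauliBasic Cfsg.Agent.Monster.PauliClif Cfsg.Agent.Monster.PauliRep
open Cfsg.Agent.MonsterX.KAsm
open Cfsg.Agent.MonsterX.Psi Cfsg.Agent.MonsterX.Short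
open Cfsg.Agent.LeechMat.Core
open Cfsg.Agent.Characters.Core Cfsg.Agent.Characters.Brauer
open Cfsg.Agent.H831.FF (mat)
open Cfsg.Agent.H155.TC.Pau (tr)
open Cfsg.Agent.BpSpor.MBigModel (MG zz)
open Cfsg.Agent.Lib.BitNet (value)
open Cfsg.Agent.H264.TC.NoReal39 (CL)
open Cfsg.Agent.MonsterX.LaneLab (XL)
open Cfsg.Agent.MonsterX.LaneVec (lv)
open Cfsg.Agent.TAB.C2B
open Finset
open scoped TensorProduct

/-! ### general lemmas -/

theorem gen_congr {G : Type*} [Group G] {φ ψ : G → ℂ} (h : IsGeneralizedCharacter G φ) (e : ∀ g, φ g = ψ g) :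
    IsGeneralizedCharacter G ψ := funext e ▸ h

theorem char_congr {G : Type*} [Group G] {φ ψ : G → ℂ} (h : IsCharacter G φ) (e : ∀ g, φ g = ψ g) :
    IsCharacter G ψ := funext e ▸ h

open Classical in
/-- the indicator -/
noncomputable def ind (p : Prop) : ℚ := if p then 1 else 0

theorem ind_pos {p : Prop} (h : p) : ind p = 1 := if_pos h

theorem ind_neg {p : Prop} (h : ¬ p) : ind p = 0 := if_neg h

/-- the trace of a rational representation -/
theorem char_rat {G : Type*} [Group G] {W : Type} [AddCommGroup W] [Module ℚ W] [FiniteDimensional ℚ W]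
    (f : G →* (W ≃ₗ[ℚ] W)) : IsCharacter G fun g => ((LinearMap.trace ℚ W (f g : W →ₗ[ℚ] W) : ℚ) : ℂ) := by
  let ρ : Representation ℂ G (ℂ ⊗[ℚ] W) :=
    { toFun := fun g => (f g : W →ₗ[ℚ] W).baseChange ℂ
      map_one' := by
        rw [map_one]
        exact LinearMap.baseChange_id
      map_mul' := fun g h => by
        rw [map_mul]
        exact LinearMap.baseChange_comp _ _ }
  have h := isCharacter_of_rep ρ
  have e : ρ.character = fun g => ((LinearMap.trace ℚ W (f g : W →ₗ[ℚ] W) : ℚ) : ℂ) :=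
    funext fun g => LinearMap.trace_baseChange (f g : W →ₗ[ℚ] W) ℂ
  rwa [e] at h

/-- a permutation character -/
theorem char_act {G X : Type*} [Group G] [Fintype X] (a : G → X → X) (h1 : ∀ x, a 1 x = x)
    (hm : ∀ g h x, a (g * h) x = a g (a h x)) :
    IsCharacter G fun g => ((∑ x, ind (a g x = x) : ℚ) : ℂ) := by
  classical
  let _ : MulAction G X := { smul := a, one_smul := h1, mul_smul := hm }
  refine char_congr (S0157.isCharacter_fixedBy (G := G) X) fun g => ?_
  unfold ind
  rw [sum_boole, Rat.cast_natCast, ← Fintype.card_subtype, ← Nat.card_eq_fintype_card]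
  rfl

/-! ### the projections -/

/-- to the Monster -/
noncomputable def p1 : Hat →* MG := (MonoidHom.fst _ _).comp Hat.subtype

/-- to `Co0` -/
noncomputable def p2 : Hat →* Co0 := (MonoidHom.fst _ _).comp ((MonoidHom.snd _ _).comp Hat.subtype)

/-- to the spin space -/
noncomputable def p4 : Hat →* ((B 12 → ℚ) ≃ₗ[ℚ] (B 12 → ℚ)) :=
  (MonoidHom.snd _ _).comp ((MonoidHom.snd _ _).comp ((MonoidHom.snd _ _).comp Hat.subtype))

theorem char_c24 : IsCharacter Hat fun x => ((c24 x : ℚ) : ℂ) := by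
  have h := S0148.isCharacter_of_matrix
    (((Rat.castHom ℂ).mapMatrix (m := GolayPt)).toMonoidHom.comp (mat.comp p2))
  refine char_congr h fun x => ?_
  exact (AddMonoidHom.map_trace (Rat.castHom ℂ) (mat x.1.2.1)).symm

theorem char_cT : IsCharacter Hat fun x => ((cT x : ℚ) : ℂ) := char_rat p4

theorem char_tV : IsCharacter Hat fun x => ((tV x.1.1 : ℚ) : ℂ) :=
  isCharacter_comp p1 H875.M23.TraceChar.isCharacter_trV

theorem gen_c24 : IsGeneralizedCharacter Hat fun x => ((c24 x : ℚ) : ℂ) :=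
  isGeneralizedCharacter_of_isCharacter char_c24

theorem gen_cT : IsGeneralizedCharacter Hat fun x => ((cT x : ℚ) : ℂ) :=
  isGeneralizedCharacter_of_isCharacter char_cT

theorem gen_s2 : IsGeneralizedCharacter Hat fun x => ((s2 x : ℚ) : ℂ) := by
  have := finite_hat
  have h := isGeneralizedCharacter_sub (isGeneralizedCharacter_sub (isGeneralizedCharacter_of_isCharacter char_tV)
    (isGeneralizedCharacter_sub (isGeneralizedCharacter_mul gen_c24 gen_c24) (H447.CTab.gen_ext_two gen_c24)))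
    (isGeneralizedCharacter_mul gen_cT gen_c24)
  refine gen_congr h fun x => ?_
  simp only [Pi.sub_apply, Pi.mul_apply]
  rw [tV_hat x.2, Subgroup.coe_pow]
  push_cast
  ring

/-! ### the short vectors -/

/-- the short vectors -/
def SV : Type := {v : leechLattice // sqNorm (v : GolayPt → ℤ) = 32}

/-- the lanes -/
def LJ : Type := {j : ℕ // j ∈ (range (2 ^ 17)).filter fun j => XL.testBit j = true}

/-- the short vector of a lane with a sign -/
noncomputable def sv (p : LJ × Bool) : SV :=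
  ⟨if p.2 = true then lv p.1.1 else -lv p.1.1, by
    have h := LaneVec.sqNorm_lv (mem_filter.1 p.1.2).2
    split_ifs
    · exact h
    · exact (sqNorm_neg _).trans h⟩

theorem psi_sv (p : LJ × Bool) : psi (sv p).1 = psi (lv p.1.1) := by
  unfold sv
  dsimp only
  split_ifs
  · rfl
  · exact psi_neg _

theorem sv_bij : Function.Bijective sv := by
  constructor
  · rintro ⟨j, b⟩ ⟨k, c⟩ h
    have hj := (mem_filter.1 j.2).2
    have hk := (mem_filter.1 k.2).2
    have h1 : psi (lv j.1) = psi (lv k.1) := by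
      have h2 := psi_sv (j, b)
      rw [h, psi_sv] at h2
      exact h2.symm
    rw [LaneVec.psi_lv hj, LaneVec.psi_lv hk] at h1
    obtain rfl : j = k := Subtype.ext (LaneInj.lab_inj hj hk h1)
    have h3 := short_ne_neg (LaneVec.sqNorm_lv hj)
    have h4 : (if b = true then lv j.1 else -lv j.1) = if c = true then lv j.1 else -lv j.1 := congrArg Subtype.val h
    cases b <;> cases c
    · rfl
    · exact absurd (by simpa using h4.symm) h3
    · exact absurd (by simpa using h4) h3
    · rfl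
  · intro v
    obtain ⟨j, hj, h⟩ := LaneInj.exists_lab (mk_mem v.1 v.2)
    rw [ab_mk, ← LaneVec.psi_lv hj] at h
    have hj' : j ∈ (range (2 ^ 17)).filter fun j => XL.testBit j = true :=
      mem_filter.2 ⟨mem_range.2 (lt_of_lt_of_eq (LaneVec.lt_of_XL hj) (by norm_num)), hj⟩
    rcases eq_or_neg v.2 (LaneVec.sqNorm_lv hj) h with h1 | h1
    · exact ⟨(⟨j, hj'⟩, true), Subtype.ext h1.symm⟩
    · exact ⟨(⟨j, hj'⟩, false), Subtype.ext h1.symm⟩

theorem finite_SV : Finite SV := by
  have : Finite LJ := Finset.finite_toSet _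
  exact Finite.of_surjective sv sv_bij.2

theorem sum_SV [Fintype SV] (F : leechLattice → ℚ) :
    ∑ v : SV, F v.1 = ∑ j ∈ range (2 ^ 17), if XL.testBit j = true then F (lv j) + F (-lv j) else 0 := by
  let _ : Fintype LJ := Finset.Subtype.fintype _
  rw [← Fintype.sum_bijective sv sv_bij (fun p => F (sv p).1) (fun v => F v.1) fun _ => rfl, Fintype.sum_prod_type,
    ← sum_filter]
  refine Eq.trans (sum_congr rfl fun j _ => ?_) (sum_coe_sort _ fun j => F (lv j) + F (-lv j))
  rw [Fintype.sum_bool]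
  rfl

/-- an element over a vector -/
def pv (v : leechLattice) (t : ZMod 2) : Pauli 12 := ⟨t, (psi v).1, (psi v).2⟩

theorem aut_pv {A : Co0} {α : Pauli 12 ≃* Pauli 12} (h : Compat A α) (v : leechLattice) (t : ZMod 2) :
    α (pv v t) = pv (A • v) (α (pv v t)).s := by
  have h1 : ab (α (pv v t)) = psi (A • v) := by
    rw [h, ← quo_ab]
    rfl
  exact Pauli.ext rfl (congrArg Prod.fst h1) (congrArg Prod.snd h1)

/-- the action on the short vectors -/
def act1 (x : Hat) (v : SV) : SV := ⟨x.1.2.1 • v.1, (co0_sqNorm _ _).trans v.2⟩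

/-- the action on the pairs -/
def act2 (x : Hat) (q : SV × ZMod 2) : SV × ZMod 2 := (act1 x q.1, (x.1.2.2.1 (pv q.1.1 q.2)).s)

theorem act1_one (v : SV) : act1 1 v = v := Subtype.ext (one_smul Co0 v.1)

theorem act1_mul (x y : Hat) (v : SV) : act1 (x * y) v = act1 x (act1 y v) :=
  Subtype.ext (mul_smul x.1.2.1 y.1.2.1 v.1)

theorem act2_one (q : SV × ZMod 2) : act2 1 q = q := Prod.ext (act1_one _) rfl

theorem act2_mul (x y : Hat) (q : SV × ZMod 2) : act2 (x * y) q = act2 x (act2 y q) := by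
  refine Prod.ext (act1_mul _ _ _) ?_
  show (x.1.2.2.1 (y.1.2.2.1 (pv q.1.1 q.2))).s = _
  rw [aut_pv (mem_Hat.1 y.2).compat]
  rfl

theorem fix_sum (x : Hat) (v : SV) :
    (∑ t : ZMod 2, ind (act2 x (v, t) = (v, t))) - ind (act1 x v = v) =
      ind (x.1.2.1 • v.1 = v.1) * ch (pv v.1 0) (x.1.2.2.1 (pv v.1 0)) := by
  have e0 : act1 x v = v ↔ x.1.2.1 • v.1 = v.1 := Subtype.ext_iff
  have e2 : ∀ t, act2 x (v, t) = (v, t) ↔ act1 x v = v ∧ (x.1.2.2.1 (pv v.1 t)).s = t := fun t => Prod.ext_iff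
  have e3 : (univ : Finset (ZMod 2)) = {0, 1} := by decide
  have e4 : (1 : ZMod 2) + 1 = 0 := by decide
  have e5 : ¬ (0 : ZMod 2) = 1 := by decide
  rw [e3, sum_pair e5, e2, e2, e0]
  by_cases h : x.1.2.1 • v.1 = v.1
  · have h1 := aut_pv (mem_Hat.1 x.2).compat v.1 0
    rw [h] at h1
    have h2 : pv v.1 1 = Pauli.z 12 * pv v.1 0 := by
      rw [Pauli.z_mul]
      rfl
    have h3 : (x.1.2.2.1 (pv v.1 1)).s = (x.1.2.2.1 (pv v.1 0)).s + 1 := by
      rw [h2, map_mul, aut_z, Pauli.z_mul]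
    rw [h3, ind_pos h]
    unfold ch
    rcases zmod2_cases (x.1.2.2.1 (pv v.1 0)).s with h4 | h4
    · rw [h4] at h1
      rw [h4, ind_pos ⟨h, rfl⟩, ind_pos ⟨h, zero_add _⟩, if_pos h1.symm]
      norm_num
    · rw [h4] at h1
      rw [h4, e4, ind_neg fun h5 => e5 h5.2.symm, ind_neg fun h5 => e5 h5.2, h1, if_neg, if_pos]
      · norm_num
      · rw [Pauli.z_mul]
        exact Pauli.ext e4.symm rfl rfl
      · intro h5
        exact e5 (congrArg Pauli.s h5)
  · rw [ind_neg h, ind_neg fun h5 => h h5.1, ind_neg fun h5 => h h5.1]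
    ring

theorem pv_neg (v : leechLattice) (t : ZMod 2) : pv (-v) t = pv v t := by
  unfold pv
  rw [psi_neg]

theorem pv_lv {j : ℕ} (hj : XL.testBit j = true) : pv (lv j) 0 = pc (value CL j) := by
  have h := ab_pc_val hj
  exact Pauli.ext rfl (congrArg Prod.fst h).symm (congrArg Prod.snd h).symm

theorem gen_sum : IsGeneralizedCharacter Hat fun x => ((s2 x + s2o x : ℚ) : ℂ) := by
  have := finite_SV
  have := Fintype.ofFinite SV
  refine ⟨_, _, char_act act2 act2_one act2_mul, char_act act1 act1_one act1_mul, ?_⟩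
  funext x
  rw [Pi.sub_apply, ← Rat.cast_sub, Fintype.sum_prod_type, ← sum_sub_distrib]
  congr 1
  rw [sum_congr rfl fun v _ => fix_sum x v,
    sum_SV fun v => ind (x.1.2.1 • v = v) * ch (pv v 0) (x.1.2.2.1 (pv v 0))]
  show sS x.1.2.2.1 + sO x.1.2.1 x.1.2.2.1 = _
  unfold sS sO
  rw [← sum_add_distrib]
  refine sum_congr rfl fun j _ => ?_
  by_cases hj : XL.testBit j = true
  · rw [if_pos hj, if_pos hj, if_pos hj, pv_neg, pv_lv hj, co0_smul_neg, neg_inj]
    unfold phi
    by_cases h : x.1.2.1 • lv j = lv j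
    · rw [if_pos h, ind_pos h]
      ring
    · rw [if_neg h, ind_neg h]
      ring
  · rw [if_neg hj, if_neg hj, if_neg hj, add_zero]

theorem gen_s2o : IsGeneralizedCharacter Hat fun x => ((s2o x : ℚ) : ℂ) := by
  have h := isGeneralizedCharacter_sub gen_sum gen_s2
  refine gen_congr h fun x => ?_
  simp only [Pi.sub_apply]
  push_cast
  ring

/-! ### the character of degree 21493760 -/

/-- the character of degree `21493760` -/
noncomputable def psi3 (x : Amb) : ℚ :=
  c24 x ^ 2 + c24 x * s2o x + (cT x ^ 2 - cT (x ^ 2)) / 2 +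
    cT x * (c24 x + (c24 x ^ 3 + 3 * c24 x * c24 (x ^ 2) + 2 * c24 (x ^ 3)) / 6)

theorem gen_psi3 : IsGeneralizedCharacter Hat fun x => ((psi3 x : ℚ) : ℂ) := by
  have := finite_hat
  have l2 := H447.CTab.gen_ext_two gen_c24
  have s3 := isGeneralizedCharacter_add (isGeneralizedCharacter_sub
    (isGeneralizedCharacter_mul gen_c24 (isGeneralizedCharacter_mul gen_c24 gen_c24))
    (isGeneralizedCharacter_add (isGeneralizedCharacter_mul gen_c24 l2) (isGeneralizedCharacter_mul gen_c24 l2)))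
    (H447.CTab.gen_ext_three gen_c24)
  have h := isGeneralizedCharacter_add (isGeneralizedCharacter_add (isGeneralizedCharacter_add
    (isGeneralizedCharacter_mul gen_c24 gen_c24) (isGeneralizedCharacter_mul gen_c24 gen_s2o))
    (H447.CTab.gen_ext_two gen_cT)) (isGeneralizedCharacter_mul gen_cT (isGeneralizedCharacter_add gen_c24 s3))
  refine gen_congr h fun x => ?_
  simp only [Pi.add_apply, Pi.sub_apply, Pi.mul_apply, Subgroup.coe_pow]
  unfold psi3
  push_cast
  ring

theorem psi3_om {x : Amb} (hx : x ∈ Hat) : psi3 (x * om) = psi3 x := by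
  unfold psi3
  rw [mul_om_sq, mul_om_cube, c24_om, c24_om, cT_om, s2o_om hx]
  ring

theorem psi3_fiber {x y : Amb} (hx : x ∈ Hat) (hy : y ∈ Hat) (h : x.1 = y.1) : psi3 y = psi3 x := by
  rcases fiber hx hy h with rfl | rfl
  · rfl
  · exact psi3_om hx

end Cfsg.Agent.TAB.Psi
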