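import Cfsg.Agent.TAB.C2B.Defs
import Cfsg.Agent.SporadicA.Co0Basic
import Cfsg.Agent.CoOneType.FrameFix

/-!
# The kernel of the double cover of `C(z)` (helper90)

`om` : the central element; `ker` : the kernel of `Hat → M` is `{1, om}`; `finite_hat`;
the signs of `c24`, `cT`, `s2o` under `om`.
-/

set_option autoImplicit false
set_option maxRecDepth 100000

namespace Cfsg.Agent.TAB.Psi

open Cfsg Cfsg.Agent.Monster Cfsg.Agent.MonsterX Cfsg.Agent.MonsterX.Space
open Cfsg.Agent.Monster.PauliBasic Cfsg.Agent.Monster.PauliClif Cfsg.Agent.Monster.PauliRep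
open Cfsg.Agent.MonsterX.KAsm Cfsg.Agent.MonsterX.KRows Cfsg.Agent.MonsterX.CoGens Cfsg.Agent.MonsterX.UOnto
open Cfsg.Agent.MonsterX.Psi Cfsg.Agent.MonsterX.Short
open Cfsg.Agent.SporadicStructure.Co0Base (e8)
open Cfsg.Agent.SporadicA.Co0Basic (negCo0 negCo0_apply negCo0_mem_center)
open Cfsg.Agent.LeechMat.Core
open Cfsg.Agent.H831.FF (mat)
open Cfsg.Agent.H155.TC.Pau (tr)
open Cfsg.Agent.H155.TC.Tr
open Cfsg.Agent.BpSpor.MBigModel (MG zz)
open Cfsg.Agent.Lib.BitNet (value)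
open Cfsg.Agent.H264.TC.NoReal39 (CL)
open Cfsg.Agent.MonsterX.LaneLab (XL)
open Cfsg.Agent.MonsterX.LaneVec (lv)
open Cfsg.Agent.TAB.C2B
open Finset

/-- the central element -/
noncomputable def om : Amb := (1, negCo0, 1, LinearEquiv.neg ℚ)

theorem neg_smul' (v : leechLattice) : negCo0 • v = -v := negCo0_apply v

theorem om_comm (x : Amb) : x * om = om * x := by
  refine Prod.ext ?_ (Prod.ext ?_ (Prod.ext ?_ ?_))
  · show x.1 * 1 = 1 * x.1
    rw [mul_one, one_mul]
  · exact Subgroup.mem_center_iff.1 negCo0_mem_center x.2.1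
  · show x.2.2.1 * 1 = 1 * x.2.2.1
    rw [mul_one, one_mul]
  · apply LinearEquiv.ext
    intro f
    show x.2.2.2 (-f) = -(x.2.2.2 f)
    rw [map_neg]

theorem om_sq : om * om = 1 := by
  refine Prod.ext ?_ (Prod.ext ?_ (Prod.ext ?_ ?_))
  · exact mul_one _
  · apply Subtype.ext
    apply Equiv.ext
    intro v
    show negCo0 • negCo0 • v = v
    rw [neg_smul', neg_smul', neg_neg]
  · exact mul_one _
  · apply LinearEquiv.ext
    intro f
    exact neg_neg f

theorem rt_neg (v : leechLattice) : rt (-v) = -rt v := by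
  funext p
  show (((-(v : GolayPt → ℤ)) p : ℤ) : ℚ) = -_
  rw [Pi.neg_apply, Int.cast_neg]

theorem rt_inj {v w : leechLattice} (h : rt v = rt w) : v = w := by
  apply Subtype.ext
  funext p
  have h1 : (((v : GolayPt → ℤ) p : ℤ) : ℚ) = ((w : GolayPt → ℤ) p : ℤ) := congrFun h p
  exact_mod_cast h1

theorem rt_e8_dot (i : GolayPt) : rt (e8 i) ⬝ᵥ rt (e8 i) = 64 := by
  rw [rt_e8, dotProduct_single, Pi.single_eq_same]
  norm_num

/-- **the kernel** -/
theorem ker {x : Amb} (hx : x ∈ Hat) (h1 : x.1 = 1) : x = 1 ∨ x = om := by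
  obtain ⟨g, A, α, T⟩ := x
  obtain rfl : g = 1 := h1
  have h : Act ((1 : MG) : V ≃ₗ[ℚ] V) A α T := hx
  have hα : α = 1 := by
    apply MulEquiv.ext
    intro p
    have h2 := H155.TC.Val.conj_iota (x := 1) h p
    rw [one_mul, mul_one] at h2
    exact (H155.TC.Val.ι_inj h2).symm
  have hΘ : ∀ (f : B 12 → ℚ) (b : B 12) (v : leechLattice) (p : GolayPt), f b * rt v p = T f b * rt (A • v) p := by
    intro f b v p
    have h2 : (Θ f (rt v)).1 (laneW b p) = (Θ (T f) (rt (A • v))).1 (laneW b p) :=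
      congrArg (fun w : V => w.1 (laneW b p)) (h.act_Θ f v)
    rwa [Θ_apply, Θ_apply, Tf_of _ _ (laneW_UW b p), Tf_of _ _ (laneW_UW b p), vec_laneW, pt_laneW] at h2
  obtain ⟨c, hc⟩ : ∃ c : ℚ, ∀ v : leechLattice, rt v = c • rt (A • v) := by
    refine ⟨T (Pi.single 0 1) 0, fun v => ?_⟩
    funext p
    have h2 := hΘ (Pi.single 0 1) 0 v p
    rwa [Pi.single_eq_same, one_mul] at h2
  let i : GolayPt := Classical.arbitrary _
  have hc2 : c * c = 1 := by
    have h2 := rt_e8_dot i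
    have h3 : rt (A • e8 i) ⬝ᵥ rt (A • e8 i) = 64 := by
      rw [H155.TC.Val.rt_dot, co0_dotInt, ← H155.TC.Val.rt_dot, h2]
    rw [hc, smul_dotProduct, dotProduct_smul, h3, smul_eq_mul, smul_eq_mul] at h2
    linarith
  have h8 : rt (e8 i) i = 8 := by rw [rt_e8, Pi.single_eq_same]
  rcases mul_self_eq_one_iff.1 hc2 with rfl | rfl
  · left
    have hA : ∀ v : leechLattice, A • v = v := fun v => rt_inj ((one_smul ℚ _).symm.trans (hc v).symm)
    refine Prod.ext rfl (Prod.ext (Subtype.ext (Equiv.ext hA)) (Prod.ext hα (LinearEquiv.ext fun f => ?_)))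
    funext b
    have h2 := hΘ f b (e8 i) i
    rw [hA, h8] at h2
    show T f b = f b
    linarith
  · right
    have hA : ∀ v : leechLattice, A • v = -v := fun v => rt_inj (by rw [rt_neg, hc v, neg_one_smul, neg_neg])
    refine Prod.ext rfl (Prod.ext (Subtype.ext (Equiv.ext fun v => (hA v).trans (neg_smul' v).symm))
      (Prod.ext hα (LinearEquiv.ext fun f => ?_)))
    funext b
    have h2 := hΘ f b (e8 i) i
    rw [hA, rt_neg, Pi.neg_apply, h8] at h2
    show T f b = -f b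
    linarith

/-- the fibres -/
theorem fiber {x y : Amb} (hx : x ∈ Hat) (hy : y ∈ Hat) (h : x.1 = y.1) : y = x ∨ y = x * om := by
  have h1 : (x⁻¹ * y).1 = 1 := by
    show x.1⁻¹ * y.1 = 1
    rw [h, inv_mul_cancel]
  rcases ker (Hat.mul_mem (Hat.inv_mem hx) hy) h1 with h2 | h2
  · exact Or.inl (inv_mul_eq_one.1 h2).symm
  · exact Or.inr (inv_mul_eq_iff_eq_mul.1 h2)

theorem finite_hat : Finite Hat := by
  have := BpSpor.MBigModel.finite
  have := CoOneType.FrameFix.finite_co0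
  refine Finite.of_injective (fun x : Hat => (x.1.1, x.1.2.1)) fun x y h => ?_
  obtain ⟨h1, h2⟩ := Prod.mk.inj h
  rcases fiber x.2 y.2 h1 with h3 | h3
  · exact Subtype.ext h3.symm
  · exfalso
    have h4 : y.1.2.1 = x.1.2.1 * negCo0 := congrArg (fun w : Amb => w.2.1) h3
    rw [← h2] at h4
    exact SporadicA.Co0Basic.negCo0_ne_one (left_eq_mul.1 h4)

theorem om_mem : om ∈ Hat where
  act_u v := by
    show USide.u v = USide.u (negCo0 • v)
    rw [neg_smul', KLinkInst.u_neg]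
  compat v := by
    show psi (negCo0 • v) = quo 1 (psi v)
    rw [neg_smul', psi_neg, map_one]
    rfl
  act_X _ := rfl
  act_Θ f v := by
    show Θ f (rt v) = Θ (-f) (rt (negCo0 • v))
    rw [neg_smul', rt_neg, map_neg, map_neg, LinearMap.neg_apply, neg_neg]
  act_ρ p f := by
    show -(rho ℚ p f) = rho ℚ p (-f)
    rw [map_neg]

theorem mul_om_sq (x : Amb) : (x * om) ^ 2 = x ^ 2 := by
  rw [Commute.mul_pow (om_comm x), pow_two om, om_sq, mul_one]

theorem mul_om_cube (x : Amb) : (x * om) ^ 3 = x ^ 3 * om := by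
  rw [Commute.mul_pow (om_comm x), pow_succ om, pow_two om, om_sq, one_mul]

theorem mat_neg : mat negCo0 = -1 := by
  ext j i
  have h1 := rt_smul negCo0 i j
  rw [neg_smul', rt_neg, rt_e8, Pi.neg_apply] at h1
  rw [Matrix.neg_apply, Matrix.one_apply]
  by_cases h : j = i
  · subst h
    rw [Pi.single_eq_same] at h1
    rw [if_pos rfl]
    linarith
  · rw [Pi.single_eq_of_ne h] at h1
    rw [if_neg h]
    linarith

theorem c24_om (x : Amb) : c24 (x * om) = -c24 x := by
  show (mat (x.2.1 * negCo0)).trace = _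
  rw [map_mul, mat_neg, mul_neg_one, Matrix.trace_neg]
  rfl

theorem cT_om (x : Amb) : cT (x * om) = -cT x :=
  H155.TC.Pau.tr_neg fun f => map_neg x.2.2.2 f

theorem s2_om (x : Amb) : s2 (x * om) = s2 x := by
  show sS (x.2.2.1 * 1) = _
  rw [mul_one]
  rfl

theorem short_ne_neg {v : leechLattice} (hv : sqNorm (v : GolayPt → ℤ) = 32) : v ≠ -v := by
  intro h
  have h1 : (v : GolayPt → ℤ) = 0 := by
    funext p
    have h2 : (v : GolayPt → ℤ) p = -(v : GolayPt → ℤ) p := congrFun (congrArg Subtype.val h) p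
    show (v : GolayPt → ℤ) p = 0
    omega
  rw [h1] at hv
  simp [sqNorm] at hv

theorem ab_pc_val {j : ℕ} (hj : XL.testBit j = true) : ab (pc (value CL j)) = psi (lv j) := by
  rw [H68.CoMdl.val_live hj, ab_pc_code]

theorem ab_of_ch {p x : Pauli 12} (h : ch p x ≠ 0) : ab x = ab p := by
  unfold ch at h
  refine ((ab_eq_iff p x).2 ?_).symm
  by_contra h1
  rw [not_or] at h1
  rw [if_neg h1.1, if_neg h1.2] at h
  exact h rfl

theorem pm_of_phi {A : Co0} {α : Pauli 12 ≃* Pauli 12} (h : Compat A α) {j : ℕ} (hj : XL.testBit j = true)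
    (h0 : phi α (value CL j) ≠ 0) : A • lv j = lv j ∨ A • lv j = -lv j := by
  have h1 := LaneVec.sqNorm_lv hj
  refine eq_or_neg (by rw [co0_sqNorm, h1]) h1 ?_
  rw [h, ← ab_pc_val hj, quo_ab]
  exact ab_of_ch h0

theorem s2o_om {x : Amb} (hx : x ∈ Hat) : s2o (x * om) = -s2o x := by
  show sO (x.2.1 * negCo0) (x.2.2.1 * 1) = -sO x.2.1 x.2.2.1
  rw [mul_one]
  unfold sO
  rw [← sum_neg_distrib]
  refine sum_congr rfl fun j _ => ?_
  by_cases hj : XL.testBit j = true
  · rw [if_pos hj, if_pos hj]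
    by_cases h0 : phi x.2.2.1 (value CL j) = 0
    · rw [h0, zero_mul, zero_mul, neg_zero]
    · have h1 := short_ne_neg (LaneVec.sqNorm_lv hj)
      rw [mul_smul, neg_smul', co0_smul_neg]
      rcases pm_of_phi (mem_Hat.1 hx).compat hj h0 with h2 | h2
      · rw [h2, if_neg h1.symm, if_pos rfl]
        ring
      · rw [h2, neg_neg, if_pos rfl, if_neg h1.symm]
        ring
  · rw [if_neg hj, if_neg hj, neg_zero]

end Cfsg.Agent.TAB.Psi
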